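import Cfsg.Agent.H273.Sidki
import Cfsg.Prelude.Def_Transfer

/-!
# S5175 (SP): the last clause of the conclusion (helper311)
-/

set_option autoImplicit false

namespace Cfsg.Agent.H311.SP

open Subgroup

/-- elements of odd order of a normal subgroup of index 2 -/
theorem mem_of_odd {G : Type*} [Group G] {M : Subgroup G} [M.Normal] (h2 : M.index = 2) {g : G}
    (hg : Nat.Coprime (orderOf g) 2) : g ∈ M := by
  rw [← QuotientGroup.eq_one_iff]
  have h3 : orderOf (QuotientGroup.mk g : G ⧸ M) ∣ orderOf g := orderOf_map_dvd (QuotientGroup.mk' M) g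
  have h4 : orderOf (QuotientGroup.mk g : G ⧸ M) ∣ 2 := by
    rw [← h2, Subgroup.index_eq_card]
    exact orderOf_dvd_natCard _
  exact orderOf_eq_one_iff.1 (Nat.eq_one_of_dvd_coprimes hg h3 h4)

/-- `O²(G) = M` -/
theorem pResidual_eq {G : Type*} [Group G] [Finite G] (N M : Subgroup G) (hN : N.Normal) (hs : IsSimpleGroup N)
    (hna : ¬ IsMulCommutative N) (hM : M.Normal) (hNM : N ≤ M) (hodd : Odd (N.relIndex M)) (h2 : M.index = 2) :
    Cfsg.pResidual 2 G = M := by
  have h2' : Fact (Nat.Prime 2) := ⟨Nat.prime_two⟩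
  have hR : (Cfsg.pResidual 2 G).Normal := by
    unfold Cfsg.pResidual
    refine Subgroup.Normal.mk fun x hx g => ?_
    refine Subgroup.closure_induction (p := fun y _ => g * y * g⁻¹ ∈ Subgroup.closure
      {g : G | Nat.Coprime (orderOf g) 2}) ?_ ?_ ?_ ?_ hx
    · intro y hy
      apply Subgroup.subset_closure
      have : orderOf (g * y * g⁻¹) = orderOf y := (MulAut.conj g).orderOf_eq y
      rw [Set.mem_ofPred_eq, this]
      exact hy
    · rw [mul_one, mul_inv_cancel]; exact one_mem _
    · intro y z _ _ hy hz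
      have : g * (y * z) * g⁻¹ = (g * y * g⁻¹) * (g * z * g⁻¹) := by group
      rw [this]; exact mul_mem hy hz
    · intro y _ hy
      have : g * y⁻¹ * g⁻¹ = (g * y * g⁻¹)⁻¹ := by group
      rw [this]; exact inv_mem hy
  have hmem : ∀ g : G, Nat.Coprime (orderOf g) 2 → g ∈ Cfsg.pResidual 2 G := fun g hg => Subgroup.subset_closure hg
  -- `N ≤ O²(G)`
  have hNR : N ≤ Cfsg.pResidual 2 G := by
    rcases (IsSimpleGroup.eq_bot_or_eq_top_of_normal ((Cfsg.pResidual 2 G).subgroupOf N) inferInstance) with h | h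
    · exfalso
      have hp : IsPGroup 2 N := by
        rw [IsPGroup.iff_card]
        obtain ⟨k, m, hm, hkm⟩ := Nat.exists_eq_two_pow_mul_odd (Nat.card_pos (α := N)).ne'
        refine ⟨k, ?_⟩
        have hm1 : m = 1 := by
          by_contra hne
          obtain ⟨p, hp, hpm⟩ := Nat.exists_prime_and_dvd hne
          have hp' : Fact p.Prime := ⟨hp⟩
          obtain ⟨x, hx⟩ := exists_prime_orderOf_dvd_card' (G := N) p (by rw [hkm]; exact hpm.mul_left _)
          have hp2 : p ≠ 2 := by
            rintro rfl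
            obtain ⟨j, rfl⟩ := hm
            omega
          have hx1 : x ∈ (Cfsg.pResidual 2 G).subgroupOf N := by
            rw [mem_subgroupOf]
            apply hmem
            rw [Subgroup.orderOf_coe, hx]
            exact (Nat.coprime_primes hp Nat.prime_two).2 hp2
          rw [h, mem_bot] at hx1
          rw [hx1, orderOf_one] at hx
          exact hp.one_lt.ne hx
        rw [hkm, hm1, mul_one]
      have hnt : Nontrivial N := hs.toNontrivial
      have hc : Nontrivial (center N) := hp.center_nontrivial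
      rcases (IsSimpleGroup.eq_bot_or_eq_top_of_normal (center N) inferInstance) with h1 | h1
      · rw [h1] at hc
        exact not_subsingleton _ (inferInstance : Subsingleton (⊥ : Subgroup N))
      · exact hna ⟨⟨fun a b => (mem_center_iff.1 (h1 ▸ mem_top b) a)⟩⟩
    · rwa [subgroupOf_eq_top] at h
  apply le_antisymm
  · unfold Cfsg.pResidual
    rw [closure_le]
    intro g hg
    exact mem_of_odd h2 hg
  · intro m hm
    rw [← QuotientGroup.eq_one_iff]
    obtain ⟨k, b, hb, hkb⟩ := Nat.exists_eq_two_pow_mul_odd (orderOf_pos m).ne'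
    have h3 : orderOf (QuotientGroup.mk m : G ⧸ Cfsg.pResidual 2 G) ∣ 2 ^ k := by
      rw [orderOf_dvd_iff_pow_eq_one, ← QuotientGroup.mk_pow, QuotientGroup.eq_one_iff]
      apply hmem
      have h4 : orderOf (m ^ 2 ^ k) = b := by
        rw [orderOf_pow_of_dvd (by positivity) (by rw [hkb]; exact dvd_mul_right _ _), hkb,
          Nat.mul_div_cancel_left _ (by positivity)]
      rw [h4]
      exact hb.coprime_two_right
    have h5 : orderOf (QuotientGroup.mk m : G ⧸ Cfsg.pResidual 2 G) ∣ N.relIndex M := by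
      rw [orderOf_dvd_iff_pow_eq_one, ← QuotientGroup.mk_pow, QuotientGroup.eq_one_iff]
      apply hNR
      have h6 : (⟨m, hm⟩ : M) ^ (N.subgroupOf M).index ∈ N.subgroupOf M := Subgroup.pow_index_mem _ _
      exact h6
    exact orderOf_eq_one_iff.1 (Nat.eq_one_of_dvd_coprimes
      (Nat.Coprime.pow_left k hodd.coprime_two_left) h3 h5)

theorem concl_of {G : Type*} [Group G] [Finite G] (N M : Subgroup G) (hN : N.Normal) (hs : IsSimpleGroup N)
    (hna : ¬ IsMulCommutative N) (hc : Subgroup.centralizer (N : Set G) = ⊥) (hM : M.Normal) (hNM : N ≤ M)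
    (hodd : Odd (N.relIndex M)) (h2 : M.index = 2) :
    Cfsg.generalizedFittingSubgroup G = N ∧ N ≤ Cfsg.pResidual 2 G ∧
      Odd (N.subgroupOf (Cfsg.pResidual 2 G)).index ∧ (Cfsg.pResidual 2 G).index = 2 := by
  rw [pResidual_eq N M hN hs hna hM hNM hodd h2]
  exact ⟨H273.Sidki.genFitting_eq hN hs hna hc, hNM, hodd, h2⟩

end Cfsg.Agent.H311.SP
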