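import Cfsg.Agent.H311.SP.Concl

/-!
# S5175 (SP): universe transport of the last clause of the conclusion (helper311)
-/

set_option autoImplicit false

namespace Cfsg.Agent.H311.SP

open Subgroup

universe u

/-- transport along an isomorphism -/
theorem concl_congr {G : Type*} [Group G] [Finite G] {H : Type*} [Group H] [Finite H] (e : H ≃* G)
    (N M : Subgroup G) (hN : N.Normal) (hs : IsSimpleGroup N)
    (hna : ¬ IsMulCommutative N) (hc : Subgroup.centralizer (N : Set G) = ⊥) (hM : M.Normal) (hNM : N ≤ M)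
    (hodd : Odd (N.relIndex M)) (h2 : M.index = 2) :
    Nonempty (↥(Cfsg.generalizedFittingSubgroup H) ≃* ↥N) ∧
      Cfsg.generalizedFittingSubgroup H ≤ Cfsg.pResidual 2 H ∧
      Odd ((Cfsg.generalizedFittingSubgroup H).subgroupOf (Cfsg.pResidual 2 H)).index ∧
      (Cfsg.pResidual 2 H).index = 2 := by
  have eN : ↥(N.comap e.toMonoidHom) ≃* ↥N := by
    refine ⟨⟨fun x => ⟨e x.1, x.2⟩, fun y => ⟨e.symm y.1, ?_⟩, ?_, ?_⟩, ?_⟩
    · show e (e.symm y.1) ∈ N
      rw [e.apply_symm_apply]; exact y.2
    · intro x; apply Subtype.ext; exact e.symm_apply_apply _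
    · intro x; apply Subtype.ext; exact e.apply_symm_apply _
    · intro x y; apply Subtype.ext; exact map_mul e _ _
  have hN' : (N.comap e.toMonoidHom).Normal := hN.comap _
  have hM' : (M.comap e.toMonoidHom).Normal := hM.comap _
  have hs' : IsSimpleGroup (N.comap e.toMonoidHom) := by
    haveI : Nontrivial ↥(N.comap e.toMonoidHom) := eN.toEquiv.nontrivial
    exact eN.isSimpleGroup
  have hna' : ¬ IsMulCommutative ↥(N.comap e.toMonoidHom) := by
    intro h
    apply hna
    refine ⟨⟨fun a b => ?_⟩⟩
    have h1 := h.is_comm.comm (eN.symm a) (eN.symm b)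
    apply eN.symm.injective
    rw [map_mul, map_mul]
    exact h1
  have hc' : Subgroup.centralizer ((N.comap e.toMonoidHom : Subgroup H) : Set H) = ⊥ := by
    rw [eq_bot_iff]
    intro x hx
    rw [mem_bot]
    apply e.injective
    rw [map_one]
    have h1 : e x ∈ Subgroup.centralizer (N : Set G) := by
      rw [mem_centralizer_iff]
      intro y hy
      have h2 := mem_centralizer_iff.1 hx (e.symm y) (by
        show e (e.symm y) ∈ N
        rw [e.apply_symm_apply]; exact hy)
      have h3 := congrArg e h2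
      rw [map_mul, map_mul, e.apply_symm_apply] at h3
      exact h3
    rw [hc, mem_bot] at h1
    exact h1
  have hNM' : N.comap e.toMonoidHom ≤ M.comap e.toMonoidHom := comap_mono hNM
  have hsurj : Function.Surjective e.toMonoidHom := e.surjective
  have hodd' : Odd ((N.comap e.toMonoidHom).relIndex (M.comap e.toMonoidHom)) := by
    have h1 := Subgroup.relIndex_comap (f := e.toMonoidHom) (H := N) (K := M.comap e.toMonoidHom)
    rw [map_comap_eq_self_of_surjective hsurj] at h1
    rw [h1]; exact hodd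
  have h2' : (M.comap e.toMonoidHom).index = 2 := by
    rw [index_comap_of_surjective _ hsurj]; exact h2
  obtain ⟨h3, h4, h5, h6⟩ := concl_of _ _ hN' hs' hna' hc' hM' hNM' hodd' h2'
  rw [h3]
  exact ⟨⟨eN⟩, h4, h5, h6⟩

/-- transport to a higher universe -/
theorem concl_ulift {G : Type} [Group G] [Finite G] (N M : Subgroup G) (hN : N.Normal) (hs : IsSimpleGroup N)
    (hna : ¬ IsMulCommutative N) (hc : Subgroup.centralizer (N : Set G) = ⊥) (hM : M.Normal) (hNM : N ≤ M)
    (hodd : Odd (N.relIndex M)) (h2 : M.index = 2) :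
    Nonempty (↥(Cfsg.generalizedFittingSubgroup (ULift.{u} G)) ≃* ↥N) ∧
      Cfsg.generalizedFittingSubgroup (ULift.{u} G) ≤ Cfsg.pResidual 2 (ULift.{u} G) ∧
      Odd ((Cfsg.generalizedFittingSubgroup (ULift.{u} G)).subgroupOf (Cfsg.pResidual 2 (ULift.{u} G))).index ∧
      (Cfsg.pResidual 2 (ULift.{u} G)).index = 2 :=
  concl_congr MulEquiv.ulift N M hN hs hna hc hM hNM hodd h2

end Cfsg.Agent.H311.SP
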